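import Cfsg.Agent.H478.RadTools_m3
import Cfsg.Agent.KFacts.He.TwoA_m3
import Cfsg.Agent.Prune
set_option linter.all false
prune_inst 0x7f00000000000000000000000000000000000000000000000000000000000000000000000000000000000000000000000000000000000000000000000000000000000000000000000000000000000000003fffffffffffffffffffffffffffbeffbdffffffff
open scoped Cfsg.Agent.FastGrp

/-!
# The Held group has no radical elements of order 5 and 7 (task 673, helper587)

Sylow subgroups by explicit words, and for each representative `x` of the elements of order `p` a certificate that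
`⟨x, g x g⁻¹⟩` contains two elements `x`, `b` such that the orders of `x`, `b`, `x b` are pairwise coprime.
-/

set_option autoImplicit false
set_option maxRecDepth 100000

namespace Cfsg.Agent.H587.NR.He

open Subgroup Cfsg
open Cfsg.Spor.He (Gen)
open Cfsg.Agent.SporadicB.HePerm (act wd phi phi_wd_apply)
open Cfsg.Agent.FixBN.HeStab Cfsg.Agent.KFacts.He.Lv Cfsg.Agent.CpAutHe.Cnt
open Cfsg.Agent.H839.Rad Cfsg.Agent.H459.Rad

theorem chkB_of_eq {v w : List Gen} (h : wd v = wd w) : chkB v w = true := by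
  have key : ∀ i : ℕ, i < 2058 → Nat.beq (act v i) (act w i) = true := by
    intro i hi
    have h1 := phi_wd_apply v ⟨i, hi⟩
    have h2 := phi_wd_apply w ⟨i, hi⟩
    rw [h] at h1
    have h3 : act v i = act w i := h1.symm.trans h2
    rw [h3]
    exact Nat.beq_refl _
  unfold chkB
  rw [Bool.and_eq_true, Bool.and_eq_true, Bool.and_eq_true]
  exact ⟨⟨key 0 (by norm_num), key 1 (by norm_num)⟩, key 32 (by norm_num), key 8 (by norm_num)⟩

theorem ne_of_chkB {v w : List Gen} (h : chkB v w = false) : wd v ≠ wd w := by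
  intro he
  rw [chkB_of_eq he] at h
  exact absurd h (by decide)

theorem gn_sq (x : Gen) : gn x * gn x = 1 := by
  have h : chkB [x, x] [] = true := by cases x <;> decide +kernel
  have h1 := eq_of_chkB h
  rwa [wd_cons, wd_one, wd_nil] at h1

theorem wd_reverse (w : List Gen) : wd w.reverse = (wd w)⁻¹ := by
  induction w with
  | nil => rw [List.reverse_nil, wd_nil, inv_one]
  | cons x w ih =>
    rw [List.reverse_cons, wd_append, wd_one, ih, wd_cons, mul_inv_rev]
    congr 1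
    exact eq_inv_of_mul_eq_one_left (gn_sq x)

/-- the letters `x, x⁻¹, y, y⁻¹`, `y = g x g⁻¹` -/
def lt (X g : List Gen) : ℕ → List Gen
  | 0 => X
  | 1 => X.reverse
  | 2 => g ++ (X ++ g.reverse)
  | _ => g ++ (X.reverse ++ g.reverse)

/-- words in `x, y` -/
def ex (X g : List Gen) : List ℕ → List Gen
  | [] => []
  | c :: l => lt X g c ++ ex X g l

theorem lt_mem (X g : List Gen) (c : ℕ) :
    wd (lt X g c) ∈ closure ({wd X, wd g * wd X * (wd g)⁻¹} : Set Cfsg.Spor.He) := by
  have h1 : wd X ∈ closure ({wd X, wd g * wd X * (wd g)⁻¹} : Set Cfsg.Spor.He) := subset_closure (by simp)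
  have h2 : wd g * wd X * (wd g)⁻¹ ∈ closure ({wd X, wd g * wd X * (wd g)⁻¹} : Set Cfsg.Spor.He) :=
    subset_closure (by simp)
  match c with
  | 0 => exact h1
  | 1 =>
    rw [show lt X g 1 = X.reverse from rfl, wd_reverse]
    exact inv_mem h1
  | 2 =>
    rw [show lt X g 2 = g ++ (X ++ g.reverse) from rfl, wd_append, wd_append, wd_reverse, ← mul_assoc]
    exact h2
  | n + 3 =>
    rw [show lt X g (n + 3) = g ++ (X.reverse ++ g.reverse) from rfl, wd_append, wd_append, wd_reverse, wd_reverse]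
    have h3 := inv_mem h2
    rwa [mul_inv_rev, mul_inv_rev, inv_inv] at h3

theorem ex_mem (X g : List Gen) (l : List ℕ) :
    wd (ex X g l) ∈ closure ({wd X, wd g * wd X * (wd g)⁻¹} : Set Cfsg.Spor.He) := by
  induction l with
  | nil => exact one_mem _
  | cons c l ih =>
    rw [show ex X g (c :: l) = lt X g c ++ ex X g l from rfl, wd_append]
    exact mul_mem (lt_mem X g c) ih

/-- the certificate -/
def certB (X g : List Gen) (l : List ℕ) (d m n k : ℕ) (B : List Gen) : Bool :=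
  and (and (and (chkB (pw (ex X g l) d) B) (chkB (pw X m) [])) (and (chkB (pw B n) []) (chkB (pw (X ++ B) k) [])))
    (and (and (Nat.beq (Nat.gcd m n) 1) (Nat.beq (Nat.gcd m k) 1)) (and (Nat.beq (Nat.gcd n k) 1) (not (chkB X []))))

theorem not_sol_of_cert {X g B : List Gen} {l : List ℕ} {d m n k : ℕ} (h : certB X g l d m n k B = true) :
    ¬ Sol (wd X) := by
  unfold certB at h
  simp only [Bool.and_eq_true] at h
  obtain ⟨⟨⟨h1, h2⟩, h3, h4⟩, ⟨h5, h6⟩, h7, h8⟩ := h
  have e1 := eq_of_chkB h1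
  have e2 := eq_of_chkB h2
  have e3 := eq_of_chkB h3
  have e4 := eq_of_chkB h4
  rw [wd_pw] at e1 e2 e3 e4
  rw [wd_nil] at e2 e3 e4
  rw [wd_append] at e4
  have e8 : wd X ≠ 1 := by
    rw [← wd_nil]
    refine ne_of_chkB ?_
    simpa using h8
  refine not_sol (wd g) (a := wd X) (b := wd B) (subset_closure (by simp)) ?_ e2 e3 e4
    (Nat.eq_of_beq_eq_true h5) (Nat.eq_of_beq_eq_true h6) (Nat.eq_of_beq_eq_true h7) e8
  rw [← e1]
  exact pow_mem (ex_mem X g l) d

/-! ### Order 7 -/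

/-- first generator of a Sylow 7-subgroup -/
def A7 : List Gen := [.f, .d, .a, .g, .f, .d, .c, .b, .d, .c, .d, .g, .b, .c, .d, .c, .e, .d, .f, .g, .d, .c, .d]

/-- second generator of a Sylow 7-subgroup -/
def B7 : List Gen := [.b, .d, .f, .c, .d, .g, .c, .d, .b, .c, .d, .c, .b, .e, .d, .f, .d, .c, .d, .c, .a, .b, .a]

/-- the commutator -/
def W7 : List Gen := [.d, .b, .e, .d, .c, .d, .c, .b, .c, .e, .d, .c]

theorem cert7_w : certB W7 [.c] [3, 1, 2, 2] 1 7 2 3
    [.b, .e, .d, .c, .d, .c, .b, .c, .d, .c, .d, .e, .b] = true := by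
  decide +kernel

theorem cert7_b : certB B7 [.a] [1, 3, 0, 3, 0] 1 7 8 3
    [.d, .g, .a, .b, .c, .d, .f, .c, .d, .f, .c, .d, .b, .c, .e, .b, .c, .d, .e, .b, .c, .d, .e, .b, .c, .d, .e,
    .b, .c, .d, .e, .b, .c, .d, .e, .b, .c, .d, .c, .d, .e, .f, .d, .c, .d, .c, .d, .a, .b, .a, .b, .a, .b,
    .f, .a, .g, .d] = true := by
  decide +kernel

/-- the product of the first generator and the power 0 of the second -/
def X7_0 : List Gen := [.f, .d, .a, .g, .f, .d, .c, .b, .d, .c, .d, .g, .b, .c, .d, .c, .e, .d, .f, .g, .d, .c, .d]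

theorem eq7_0 : chkB (A7 ++ pw B7 0) X7_0 = true := by decide +kernel

theorem cert7_0 : certB X7_0 [.f, .b] [0, 2, 1, 3] 1 7 3 4
    [.g, .e, .d, .e, .c, .d, .c, .e, .b, .c, .d, .c, .b, .d, .c, .d, .g, .d, .f, .d, .c, .d, .c, .f, .d] = true := by
  decide +kernel

/-- the product of the first generator and the power 1 of the second -/
def X7_1 : List Gen := [.b, .c, .d, .e, .c, .d, .g, .b, .d, .e, .f, .d, .c, .d, .c, .f, .b, .c, .d, .e, .b, .c, .d, .e, .b, .c, .d,
  .e, .b, .c, .d, .e, .b, .c, .d, .e, .b, .c, .d, .e, .b, .c, .d, .e, .f, .d, .g, .f]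

theorem eq7_1 : chkB (A7 ++ pw B7 1) X7_1 = true := by decide +kernel

theorem cert7_1 : certB X7_1 [.c, .g] [2, 2, 0, 3] 1 7 2 3
    [.c, .g, .a, .b, .a, .b, .a, .d, .c, .b, .e, .d, .c, .b, .e, .d, .c, .b, .e, .d, .c, .b, .e, .d, .c, .b, .e,
    .d, .c, .b, .e, .d, .c, .b, .f, .d, .c, .d, .e, .c, .f, .d, .f, .b, .c, .d, .c, .d, .f, .e, .d, .b, .c,
    .d, .c, .d, .b, .f] = true := by
  decide +kernel

/-- the product of the first generator and the power 2 of the second -/
def X7_2 : List Gen := [.b, .g, .d, .a, .e, .c, .d, .g, .c, .d, .g, .c, .d, .b, .c, .d, .c, .f, .d, .c, .d, .e, .b, .c, .d, .e, .b,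
  .c, .d, .e, .b, .c, .d, .e, .b, .c, .d, .e, .b, .c, .d, .e, .b, .c, .d, .f, .d, .f, .c, .e, .d, .c, .f,
  .e, .d, .e, .f, .d]

theorem eq7_2 : chkB (A7 ++ pw B7 2) X7_2 = true := by decide +kernel

theorem cert7_2 : certB X7_2 [.b, .c] [3, 0, 3] 1 7 8 3
    [.c, .g, .d, .c, .d, .g, .c, .d, .g, .c, .d, .b, .c, .d, .c, .b, .d, .f, .e, .d, .c, .e, .d, .f, .c, .d, .g,
    .c] = true := by
  decide +kernel

/-- the product of the first generator and the power 3 of the second -/
def X7_3 : List Gen := [.g, .b, .d, .f, .c, .d, .c, .b, .d, .c, .d, .c, .f, .b, .c, .d, .e, .b, .c, .d, .e, .b, .c, .d, .e, .b, .c,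
  .d, .e, .b, .c, .d, .e, .b, .c, .d, .e, .b, .d, .f, .e, .d, .c, .e, .d, .f, .d, .e, .g, .b, .d, .e, .c]

theorem eq7_3 : chkB (A7 ++ pw B7 3) X7_3 = true := by decide +kernel

theorem cert7_3 : certB X7_3 [.b] [3, 0, 3] 1 7 15 2
    [.g, .f, .d, .c, .b, .d, .c, .d, .g, .c, .d, .e, .b, .c, .d, .e, .b, .c, .d, .e, .b, .c, .d, .e, .b, .c, .d,
    .e, .b, .c, .d, .e, .b, .c, .d, .e, .f, .c, .d, .c, .e, .d, .c, .d, .f, .d, .a, .b, .c, .d] = true := by
  decide +kernel

/-- the product of the first generator and the power 4 of the second -/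
def X7_4 : List Gen := [.d, .c, .b, .e, .d, .c, .b, .d, .f, .c, .e, .d, .c, .b, .d, .c, .d, .f, .b, .c, .d, .e, .b, .c, .d, .e, .b,
  .c, .d, .e, .b, .c, .d, .e, .b, .c, .d, .e, .b, .c, .d, .e, .b, .d, .e, .f, .d, .c, .d, .c, .e, .d, .f,
  .e]

theorem eq7_4 : chkB (A7 ++ pw B7 4) X7_4 = true := by decide +kernel

theorem cert7_4 : certB X7_4 [.a, .e] [0, 3] 1 7 3 8
    [.g, .b, .c, .a, .d, .c, .b, .d, .e, .f, .d, .c, .d, .c, .b, .d, .f, .e, .d, .c, .e, .d, .a, .c, .b, .g] = true := by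
  decide +kernel

/-- the product of the first generator and the power 5 of the second -/
def X7_5 : List Gen := [.f, .b, .c, .d, .g, .c, .b, .d, .c, .d, .g, .b, .c, .e, .d, .e, .f, .d, .c, .d, .c, .d, .f, .e, .d, .e, .d,
  .a, .b, .a, .g, .d, .g, .e]

theorem eq7_5 : chkB (A7 ++ pw B7 5) X7_5 = true := by decide +kernel

theorem cert7_5 : certB X7_5 [.b] [0, 3] 1 7 4 3
    [.g, .d, .g, .e, .c, .b, .d, .c, .d, .g, .b, .e, .d, .f, .c, .d, .f, .c, .d, .b, .c, .d, .e, .b, .c, .d, .e,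
    .b, .c, .d, .e, .b, .c, .d, .e, .b, .c, .d, .e, .b, .c, .d, .e, .b, .c, .d, .f, .c, .d, .c, .f, .e, .d,
    .a, .b, .a, .b, .c, .d, .b, .g] = true := by
  decide +kernel

/-- the product of the first generator and the power 6 of the second -/
def X7_6 : List Gen := [.b, .d, .f, .g, .d, .c, .d, .c, .b, .d, .f, .g, .d, .c, .d, .c, .b, .c, .d, .f, .b, .c, .d, .e, .b, .c, .d,
  .e, .b, .c, .d, .e, .b, .c, .d, .e, .b, .c, .d, .e, .b, .c, .d, .e, .b, .f, .d, .c, .a, .b]

theorem eq7_6 : chkB (A7 ++ pw B7 6) X7_6 = true := by decide +kernel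

theorem cert7_6 : certB X7_6 [.f] [3, 1, 3] 1 7 5 4
    [.c, .d, .g, .d, .e, .f, .c, .d, .f, .c, .d, .b, .c, .d, .c, .b, .c, .d, .e, .c, .d, .c, .d, .f, .d, .c, .d,
    .c, .e, .a, .d, .g, .d, .c] = true := by
  decide +kernel

theorem seven {x : Cfsg.Spor.He} (hx : orderOf x = 7) (h : Sol x) : False := by
  have h7 : Fact (Nat.Prime 7) := ⟨by norm_num⟩
  have r1 : wd B7 * wd A7 = wd W7 * (wd A7 * wd B7) := by
    have h1 := eq_of_chkB (show chkB (B7 ++ A7) (W7 ++ (A7 ++ B7)) = true by decide +kernel)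
    rwa [wd_append, wd_append, wd_append] at h1
  have r2 : wd A7 * wd W7 = wd W7 * wd A7 := by
    have h1 := eq_of_chkB (show chkB (A7 ++ W7) (W7 ++ A7) = true by decide +kernel)
    rwa [wd_append, wd_append] at h1
  have r3 : wd B7 * wd W7 = wd W7 * wd B7 := by
    have h1 := eq_of_chkB (show chkB (B7 ++ W7) (W7 ++ B7) = true by decide +kernel)
    rwa [wd_append, wd_append] at h1
  have r4 : wd A7 ^ 7 = 1 := by
    have h1 := eq_of_chkB (show chkB (pw A7 7) [] = true by decide +kernel)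
    rwa [wd_pw, wd_nil] at h1
  have r5 : wd B7 ^ 7 = 1 := by
    have h1 := eq_of_chkB (show chkB (pw B7 7) [] = true by decide +kernel)
    rwa [wd_pw, wd_nil] at h1
  have r6 : wd W7 ^ 7 = 1 := by
    have h1 := eq_of_chkB (show chkB (pw W7 7) [] = true by decide +kernel)
    rwa [wd_pw, wd_nil] at h1
  have r7 : wd W7 ≠ 1 := by
    rw [← wd_nil]
    exact ne_of_chkB (by decide +kernel)
  have key : ∀ (j : ℕ) (X : List Gen), chkB (A7 ++ pw B7 j) X = true → wd A7 * wd B7 ^ j = wd X := by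
    intro j X hj
    have h1 := eq_of_chkB hj
    rwa [wd_append, wd_pw] at h1
  rcases exists_extra (p := 7) r1 r2 r3 r4 r5 r6 r7 (by rw [card_he]; norm_num) (S := Sol) (fun x k h => h.pow k)
    (fun x u h => h.conj u) hx h with h | h | ⟨j, hj, h⟩
  · exact not_sol_of_cert cert7_w h
  · exact not_sol_of_cert cert7_b h
  · interval_cases j
    · exact not_sol_of_cert cert7_0 (key _ _ eq7_0 ▸ h)
    · exact not_sol_of_cert cert7_1 (key _ _ eq7_1 ▸ h)
    · exact not_sol_of_cert cert7_2 (key _ _ eq7_2 ▸ h)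
    · exact not_sol_of_cert cert7_3 (key _ _ eq7_3 ▸ h)
    · exact not_sol_of_cert cert7_4 (key _ _ eq7_4 ▸ h)
    · exact not_sol_of_cert cert7_5 (key _ _ eq7_5 ▸ h)
    · exact not_sol_of_cert cert7_6 (key _ _ eq7_6 ▸ h)

/-! ### Order 5 -/

/-- first generator of a Sylow 5-subgroup -/
def A5 : List Gen := [.d, .c, .d, .c]

/-- second generator of a Sylow 5-subgroup -/
def B5 : List Gen := [.g, .c, .d, .c, .d, .g, .c, .d, .c, .b, .d, .f, .c, .e, .d, .c, .b, .f, .g]

theorem cert5_b : certB B5 [.e, .c] [3, 0] 1 5 3 2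
    [.b, .f, .e, .c, .d, .b, .g, .d, .c, .f, .d, .b, .c, .d, .e, .a] = true := by
  decide +kernel

/-- the product of the first generator and the power 0 of the second -/
def X5_0 : List Gen := [.d, .c, .d, .c]

theorem eq5_0 : chkB (A5 ++ pw B5 0) X5_0 = true := by decide +kernel

theorem cert5_0 : certB X5_0 [.e] [2, 0] 1 5 3 2
    [.c, .d, .c, .d, .e, .a] = true := by
  decide +kernel

/-- the product of the first generator and the power 1 of the second -/
def X5_1 : List Gen := [.a, .c, .b, .d, .c, .b, .e, .d, .c, .b, .e, .d, .c, .b, .e, .d, .c, .b, .e, .d, .c, .b, .e, .d, .c, .b, .d,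
  .f, .e, .d, .c, .d, .c, .d, .f, .d, .c, .d, .f, .c]

theorem eq5_1 : chkB (A5 ++ pw B5 1) X5_1 = true := by decide +kernel

theorem cert5_1 : certB X5_1 [.e] [3, 0] 1 5 3 2
    [.b, .d, .f, .c, .d, .g, .d, .f, .c, .b] = true := by
  decide +kernel

/-- the product of the first generator and the power 2 of the second -/
def X5_2 : List Gen := [.b, .f, .c, .d, .f, .g, .d, .f, .c, .d, .b, .c, .d, .c, .b, .e, .d, .c, .d, .f, .e, .d, .c, .f, .d, .e, .b,
  .c, .d, .a]

theorem eq5_2 : chkB (A5 ++ pw B5 2) X5_2 = true := by decide +kernel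

theorem cert5_2 : certB X5_2 [.b] [2, 0, 2] 1 5 4 3
    [.d, .c, .b, .g, .d, .f, .c, .d, .g, .d, .c, .d, .e, .b, .c, .d, .e, .b, .c, .d, .e, .b, .c, .d, .e, .b, .c,
    .d, .e, .b, .c, .d, .e, .b, .f, .d, .c, .e, .d, .f, .a, .b, .a, .b, .c] = true := by
  decide +kernel

/-- the product of the first generator and the power 3 of the second -/
def X5_3 : List Gen := [.b, .e, .d, .f, .c, .d, .e, .f, .d, .c, .d, .e, .b, .c, .d, .c, .b, .d, .c, .f, .d, .g, .f, .d, .c, .f, .b]

theorem eq5_3 : chkB (A5 ++ pw B5 3) X5_3 = true := by decide +kernel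

theorem cert5_3 : certB X5_3 [.e] [2, 0] 1 5 3 2
    [.b, .f, .c, .d, .f, .g, .d, .f, .c, .d, .b, .c, .d, .c, .b, .e, .d, .c, .d, .f, .e, .d, .c, .f, .d, .b] = true := by
  decide +kernel

/-- the product of the first generator and the power 4 of the second -/
def X5_4 : List Gen := [.g, .f, .b, .c, .d, .c, .b, .c, .d, .c, .f, .d, .c, .d, .f, .d, .c, .d, .c, .f, .d, .g, .e]

theorem eq5_4 : chkB (A5 ++ pw B5 4) X5_4 = true := by decide +kernel

theorem cert5_4 : certB X5_4 [.a] [0, 3] 1 5 3 2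
    [.f, .b, .g, .c, .d, .c, .f, .b, .g] = true := by
  decide +kernel

theorem five {x : Cfsg.Spor.He} (hx : orderOf x = 5) (h : Sol x) : False := by
  have h5 : Fact (Nat.Prime 5) := ⟨by norm_num⟩
  have r1 : wd B5 * wd A5 = wd A5 * wd B5 := by
    have h1 := eq_of_chkB (show chkB (B5 ++ A5) (A5 ++ B5) = true by decide +kernel)
    rwa [wd_append, wd_append] at h1
  have r4 : wd A5 ^ 5 = 1 := by
    have h1 := eq_of_chkB (show chkB (pw A5 5) [] = true by decide +kernel)
    rwa [wd_pw, wd_nil] at h1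
  have r5 : wd B5 ^ 5 = 1 := by
    have h1 := eq_of_chkB (show chkB (pw B5 5) [] = true by decide +kernel)
    rwa [wd_pw, wd_nil] at h1
  have r6 : wd A5 ≠ 1 := by
    rw [← wd_nil]
    exact ne_of_chkB (by decide +kernel)
  have r7 : ∀ j < 5, wd B5 ≠ wd A5 ^ j := by
    intro j hj
    rw [← wd_pw]
    apply ne_of_chkB
    interval_cases j <;> decide +kernel
  have key : ∀ (j : ℕ) (X : List Gen), chkB (A5 ++ pw B5 j) X = true → wd A5 * wd B5 ^ j = wd X := by
    intro j X hj
    have h1 := eq_of_chkB hj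
    rwa [wd_append, wd_pw] at h1
  rcases exists_abel (p := 5) r1 r4 r5 r6 r7 (by rw [card_he]; norm_num) (S := Sol) (fun x k h => h.pow k)
    (fun x u h => h.conj u) hx h with h | ⟨j, hj, h⟩
  · exact not_sol_of_cert cert5_b h
  · interval_cases j
    · exact not_sol_of_cert cert5_0 (key _ _ eq5_0 ▸ h)
    · exact not_sol_of_cert cert5_1 (key _ _ eq5_1 ▸ h)
    · exact not_sol_of_cert cert5_2 (key _ _ eq5_2 ▸ h)
    · exact not_sol_of_cert cert5_3 (key _ _ eq5_3 ▸ h)
    · exact not_sol_of_cert cert5_4 (key _ _ eq5_4 ▸ h)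

theorem center_bot : center Cfsg.Spor.He = ⊥ := by
  have hs : IsSimpleGroup Cfsg.Spor.He := Cfsg.Agent.S1695.result.1
  rcases IsSimpleGroup.eq_bot_or_eq_top_of_normal (center Cfsg.Spor.He) inferInstance with h | h
  · exact h
  · exfalso
    have h1 : gn .a * gn .b = gn .b * gn .a := (mem_center_iff.1 (h ▸ mem_top (gn .b)) (gn .a))
    have h2 : wd [.a, .b] = wd [.b, .a] := by
      rw [wd_cons, wd_one, wd_cons, wd_one, h1]
    exact ne_of_chkB (show chkB [.a, .b] [.b, .a] = false by decide +kernel) h2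

variable {K : Type*} [Group K] [Finite K]

/-- **He, p = 5** -/
theorem noRad_He_five (h : Cfsg.Spor.IsoHe K) : NoRad 5 K := by
  obtain ⟨e⟩ := h
  exact NoRad.congr e fun x hx _ hP => five hx fun g => solvable_pair center_bot hP g

/-- **He, p = 7** -/
theorem noRad_He_seven (h : Cfsg.Spor.IsoHe K) : NoRad 7 K := by
  obtain ⟨e⟩ := h
  exact NoRad.congr e fun x hx _ hP => seven hx fun g => solvable_pair center_bot hP g

end Cfsg.Agent.H587.NR.He
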